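import Groth.Agent.S16761
import Groth.Agent.S14444
import Groth.Agent.S18910
import Groth.Agent.H25FM.RankRpush
import Groth.Agent.H26Gr.QuotBC
import Groth.Agent.LeadBC.GenBC.Glob

/-!
# Direct images on families of smooth curves
-/

set_option autoImplicit false
set_option linter.style.haveILetI false
set_option linter.unusedSectionVars false
set_option maxHeartbeats 1000000
set_option backward.isDefEq.respectTransparency.types false
universe u

open CategoryTheory CategoryTheory.Limits AlgebraicGeometry TopologicalSpace Opposite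

namespace Groth.Agent.H29CurveFamily

attribute [local instance 10000] H10Coh.hasSheafifyAb H10Coh.hasWeakSheafifyAb H10Coh.hasExtAb H10Coh.enoughInjAb

/-- A locally free direct image commuting with the passage to a fibre has the rank of that fibre. -/
theorem push_rank_nhd {X S : Scheme.{u}} (f : X ⟶ S) [IsProper f] {F : X.Modules} [F.IsQuasicoherent]
    (h : FlatMod.IsFinLocFree ((Coh.push f).obj F)) (s : S)
    (hbc : IsIso (CohBC.bc0 f (S.fromSpecResidueField s) (f.fiberToSpecResidueField s) (f.fiberι s)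
      (f.fiber_fac s) F)) :
    ∃ U : S.Opens, s ∈ U ∧
      Nonempty (((Coh.push f).obj F).restrict U.ι ≅ FlatMod.freeMod (↑U) (CohIII.fiberRank f F 0 s)) := by
  obtain ⟨U, n, hs, ⟨e⟩⟩ := h s
  refine ⟨U, hs, ?_⟩
  suffices hn : n = CohIII.fiberRank f F 0 s by subst hn; exact ⟨e⟩
  let g := S.fromSpecResidueField s
  let q := f.fiberToSpecResidueField s
  let K := S.residueField s
  letI : (f.fiber s).Over (Spec (CommRingCat.of K)) := ⟨q⟩
  haveI : IsProper ((f.fiber s) ↘ Spec (CommRingCat.of K)) :=
    MorphismProperty.pullback_snd f g inferInstance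
  have hle : (⊤ : (Spec (CommRingCat.of K)).Opens) ≤ g ⁻¹ᵁ U := fun z _ => by
    show S.fromSpecResidueField s z ∈ U
    rw [Scheme.fromSpecResidueField_apply]
    exact hs
  have htop : g ⁻¹ᵁ U = ⊤ := top_le_iff.1 hle
  let N := (Scheme.Modules.pullback g).obj ((Coh.push f).obj F)
  have eN : N.restrict (g ⁻¹ᵁ U).ι ≅ FlatMod.freeMod _ n :=
    (H16Derived.KFlat.Stalk.pullbackRestrictIso g U).app _ ≪≫ (Scheme.Modules.pullback (g ∣_ U)).mapIso e ≪≫
      H16Derived.KFlat.Stalk.freeModPullbackIso (g ∣_ U) n
  rw [htop] at eN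
  haveI := H10Coh.enoughInjMod (f.fiber s)
  haveI : ((Scheme.Modules.pullback (f.fiberι s)).obj F).IsQuasicoherent :=
    H29Fitt.isQCoh_pullback _ F inferInstance
  haveI := hbc
  have e1 : Module.finrank K (CohIII.fiberH f F s 0) =
      Module.finrank Γ(Spec (CommRingCat.of K), ⊤) Γ(N, ⊤) := by
    refine (H25FM.finrank_HH_eq_rpush (k := K) ((Scheme.Modules.pullback (f.fiberι s)).obj F) 0).trans ?_
    exact (H25FM.finrank_sections_congr ((Scheme.Modules.pushforward q).rightDerivedZeroIsoSelf.app _ ≪≫
      (asIso (CohBC.bc0 f g q (f.fiberι s) (f.fiber_fac s) F)).symm))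
  refine Eq.trans ?_ e1.symm
  let ι := ((⊤ : (Spec (CommRingCat.of K)).Opens).ι)
  haveI : IsIso ι := inferInstanceAs (IsIso ((Spec (CommRingCat.of K)).topIso.hom))
  have eFree : N ≅ FlatMod.freeMod (Spec (CommRingCat.of K)) n :=
    (Scheme.Modules.pullbackId _).symm.app N ≪≫
      (Scheme.Modules.pullbackCongr (IsIso.inv_hom_id ι).symm).app N ≪≫
      ((Scheme.Modules.pullbackComp (inv ι) ι).app N).symm ≪≫
      (Scheme.Modules.pullback (inv ι)).mapIso (((Scheme.Modules.restrictFunctorIsoPullback ι).app N).symm ≪≫ eN) ≪≫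
      H16Derived.KFlat.Stalk.freeModPullbackIso (inv ι) n
  exact ((H25FM.finrank_sections_congr eFree).trans (H25FM.finrank_sections_freeMod _ n)).symm

variable {C S : Scheme.{u}} (f : C ⟶ S) [IsProper f] [Smooth f] [GeometricallyConnected f]
  (hdim : ∀ s : S, topologicalKrullDim ↥(f.fiber s) = 1) (g : ℕ) (hg : 2 ≤ g)
  (hgen : ∀ s : S, letI : (f.fiber s).Over (Spec (S.residueField s)) := ⟨f.fiberToSpecResidueField s⟩
    Curv2.genus (S.residueField s) (f.fiber s) = g)

include hdim in
theorem omega_invertible : PicF.IsInvertible (Omega.sheaf f) := by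
  haveI hfib : ∀ s : S, IsProper (f.fiberToSpecResidueField s) := fun s =>
    MorphismProperty.pullback_snd f _ inferInstance
  haveI hsm : ∀ s : S, Smooth (f.fiberToSpecResidueField s) := fun s =>
    MorphismProperty.pullback_snd f _ inferInstance
  haveI : SmoothOfRelativeDimension 1 f := H12Pic.PicCurve.smoothOfRelativeDimension_of_fibres f 1
    (fun s => by
      haveI : GeometricallyIntegral (f.fiberToSpecResidueField s) :=
        H21Taylor.geometricallyIntegral_of_smooth _ fun t =>
          GeometricallyConnected.geometrically_connectedSpace _ _ _ (.of_hasPullback _ _)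
      haveI : IsIntegral (f.fiber s) :=
        GeometricallyIntegral.isIntegral_of_subsingleton (f.fiberToSpecResidueField s)
      infer_instance)
    (fun s => by simpa using hdim s)
  exact H29Omega.SmoothInvertible.isInvertible_omega_smooth f

include hdim hg hgen in
/-- The cohomology of the powers of the canonical module on the fibres. -/
theorem fibre_pow (n : ℕ) (hn : 2 ≤ n) (s : S) :
    (∀ i : ℕ, 1 ≤ i → Subsingleton (CohIII.fiberH f (CohB1.tensorPow (Omega.sheaf f) n) s i)) ∧
      CohIII.fiberRank f (CohB1.tensorPow (Omega.sheaf f) n) 0 s = (2 * n - 1) * (g - 1) := by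
  have hω := omega_invertible f hdim
  have hL := H11Ample.isInvertible_tensorPow hω n
  letI : (f.fiber s).Over (Spec (CommRingCat.of (S.residueField s))) := ⟨f.fiberToSpecResidueField s⟩
  let q := f.fiber s ↘ Spec (CommRingCat.of (S.residueField s))
  haveI : IsProper q := MorphismProperty.pullback_snd f _ inferInstance
  haveI : Smooth q := MorphismProperty.pullback_snd f _ inferInstance
  haveI : Smooth (f.fiberToSpecResidueField s) := MorphismProperty.pullback_snd f _ inferInstance
  haveI : GeometricallyConnected q := (inferInstance : GeometricallyConnected (f.fiberToSpecResidueField s))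
  haveI : IsIntegral (f.fiber s) := by
    haveI : GeometricallyIntegral (f.fiberToSpecResidueField s) :=
      H21Taylor.geometricallyIntegral_of_smooth _ fun t =>
        GeometricallyConnected.geometrically_connectedSpace _ _ _ (.of_hasPullback _ _)
    exact GeometricallyIntegral.isIntegral_of_subsingleton (f.fiberToSpecResidueField s)
  obtain ⟨eΩ⟩ := S11777.nonempty_iso_omega_baseChange f (S.fromSpecResidueField s) (f.fiberι s) q
    (IsPullback.of_hasPullback _ _)
  obtain ⟨eT⟩ := H11Ample.exists_iso_pullback_tensorPow (f.fiberι s) hω n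
  let L := (Scheme.Modules.pullback (f.fiberι s)).obj (CohB1.tensorPow (Omega.sheaf f) n)
  have hLi : PicF.IsInvertible L := H11Ample.isInvertible_pullback _ hL
  have hd1 : topologicalKrullDim (f.fiber s) = 1 := by simpa using hdim s
  have h0 := H29CurveDual.finrank_h0_structure_smooth (k := S.residueField s) (X := f.fiber s)
  have hΩ := H29CurveDual.deg_omega_of_h0 (k := S.residueField s) hd1 h0
  rw [show Curv2.genus (S.residueField s) (f.fiber s) = g from hgen s] at hΩ
  have hd : Curv2.deg (S.residueField s) (f.fiber s) L 1 = n * (2 * (g : ℤ) - 2) := by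
    rw [H29RR.deg_congr eT, H22Alg.CurveAmple.deg_tensorPow hd1.le (H11Ample.isInvertible_pullback _ hω),
      H29RR.deg_congr eΩ, hΩ]
  have hgZ : (2 : ℤ) ≤ g := by exact_mod_cast hg
  have hnZ : (2 : ℤ) ≤ n := by exact_mod_cast hn
  haveI h1 : Subsingleton (Coh.HH (f.fiber s) L 1) := by
    refine H29CurveDual.subsingleton_h1_of_deg (k := S.residueField s) hd1 hLi ?_
    rw [hd, hΩ]
    nlinarith
  refine ⟨fun i hi => ?_, ?_⟩
  · rcases Nat.lt_or_ge 1 i with hi' | hi'
    · haveI : IsProper (f.fiberToSpecResidueField s) := MorphismProperty.pullback_snd f _ inferInstance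
      haveI : IsLocallyNoetherian (f.fiber s) :=
        LocallyOfFiniteType.isLocallyNoetherian (f.fiberToSpecResidueField s)
      haveI : CompactSpace (f.fiber s) :=
        QuasiCompact.compactSpace_of_compactSpace (f.fiberToSpecResidueField s)
      haveI : IsNoetherian (f.fiber s) := ⟨⟩
      haveI : TopologicalSpace.NoetherianSpace ↥(f.fiber s).toPresheafedSpace := inferInstance
      exact LeadVan.subsingleton_H_of_dim_le (X := (f.fiber s).toPresheafedSpace.carrier) 1 (hdim s).le
        (Coh.toAb (CohIII.fiberMod f (CohB1.tensorPow (Omega.sheaf f) n) s)) i hi'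
    · obtain rfl : i = 1 := by omega
      exact h1
  · have hrr := H29RR.riemann_roch (k := S.residueField s) hd1.le L
    rw [h0, hd, show Curv2.genus (S.residueField s) (f.fiber s) = g from hgen s,
      Module.finrank_zero_of_subsingleton (M := Coh.HH (f.fiber s) L 1)] at hrr
    show Module.finrank (S.residueField s) (Coh.HH (f.fiber s) L 0) = _
    zify [show 1 ≤ 2 * n by omega, show 1 ≤ g by omega]
    push_cast at hrr
    linear_combination hrr

include hdim hg hgen in
/-- Direct images of powers of the canonical module. -/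
theorem push_pow [HasInjectiveResolutions C.Modules] (n : ℕ) (hn : 2 ≤ n) :
    FlatMod.IsFinLocFreeOfRank ((2 * n - 1) * (g - 1)) ((Coh.push f).obj (CohB1.tensorPow (Omega.sheaf f) n)) ∧
      (∀ i : ℕ, 1 ≤ i → IsZero ((Coh.Rpush f i).obj (CohB1.tensorPow (Omega.sheaf f) n))) ∧
      ∀ (T C' : Scheme.{u}) (b : T ⟶ S) (f' : C' ⟶ T) (b' : C' ⟶ C) (hsq : IsPullback b' f' f b),
        IsIso (CohBC.bc0 f b f' b' hsq.w (CohB1.tensorPow (Omega.sheaf f) n)) := by
  have hL := H11Ample.isInvertible_tensorPow (omega_invertible f hdim) n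
  have hlf := H23Para.isFinLocFree_of_isInvertible hL
  have hfp := H8Props.FinLocFree.isFP_of_isFinLocFree _ hlf
  haveI := H29Fitt.isQCoh_of_isFP _ hfp
  obtain ⟨-, h⟩ := S16761.result f (CohB1.tensorPow (Omega.sheaf f) n) hfp
    (H10Coh.SheafHom.isFlatOver_of_isFinLocFree f _ hlf) 1 (fun s => (hdim s).le)
  haveI : Coh.IsQCoh (CohB1.tensorPow (Omega.sheaf f) n) := H29Fitt.isQCoh_of_isFP _ hfp
  obtain ⟨hfree', -⟩ := S14444.result f (CohB1.tensorPow (Omega.sheaf f) n) hfp
    (H10Coh.SheafHom.isFlatOver_of_isFinLocFree f _ hlf) fun s => (fibre_pow f hdim g hg hgen n hn s).1 1 le_rfl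
  obtain ⟨hz, -, hbc⟩ := h ⊤ fun s _ i hi => (fibre_pow f hdim g hg hgen n hn s).1 i hi
  refine ⟨fun s => ?_, fun i hi => LeadBC.GenBC.isZero_of_isZero_restrict _ fun y => ⟨⊤, trivial, hz i hi⟩,
    fun T C' b f' b' hsq => hbc T C' b f' b' hsq (Set.subset_univ _)⟩
  obtain ⟨U, hsU, hU⟩ := push_rank_nhd f hfree' s
    (hbc _ _ (S.fromSpecResidueField s) _ (f.fiberι s) (IsPullback.of_hasPullback _ _) (Set.subset_univ _))
  rw [(fibre_pow f hdim g hg hgen n hn s).2] at hU
  exact ⟨U, hsU, hU⟩

end Groth.Agent.H29CurveFamily
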