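import Groth.Agent.LeadBC.Seesaw
import Groth.Agent.LeadBC.GenBC.ZeroApply
import Groth.Agent.H29CurveFamily.Push
import Groth.Agent.H12Pic.PicCurve.AbelMap
import Groth.Agent.H12Pic.CurveFam.PointFamily
import Groth.Agent.H22Alg.PB.Local

/-!
# The direct image of the module of a point
-/

set_option autoImplicit false
set_option linter.style.haveILetI false
set_option linter.unusedSectionVars false
set_option maxHeartbeats 1000000
set_option backward.isDefEq.respectTransparency.types false
universe u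

open CategoryTheory CategoryTheory.Limits AlgebraicGeometry TopologicalSpace Opposite
open scoped TensorProduct

namespace Groth.Agent.H29CurveFamily

open Groth.Agent.LeadBC Groth.Agent.LeadBC.GenBC Groth.Agent.H10Coh

attribute [local instance 10000] H10Coh.hasSheafifyAb H10Coh.hasWeakSheafifyAb H10Coh.hasExtAb H10Coh.enoughInjAb

variable {X S : Scheme.{u}} (f : X ⟶ S)

/-- A one dimensional space of sections on a fibre, reached by a global section, spreads out. -/
theorem exists_epiOn_zero_of_section [IsProper f] [Flat f] [LocallyOfFinitePresentation f] (F : X.Modules)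
    [F.IsQuasicoherent] (hfp : CohB1.IsFP F) (hfl : FlatMod.IsFlatOver f F) (s : S)
    (h1 : CohIII.fiberRank f F 0 s = 1) (σ : Γ(F, ⊤))
    (hσ : OmegaSh.pullSect (f.fiberι s) F ⊤ σ ≠ 0) :
    ∃ (W : S.Opens) (hW : IsAffineOpen W), s ∈ W ∧ EpiOn f F hW 0 := by
  haveI := H10Coh.enoughInjMod X
  obtain ⟨V, hV, hs, -⟩ := exists_isAffineOpen_mem_and_subset (U := (⊤ : S.Opens)) (x := s) trivial
  have hsq : IsPullback (f.fiberι s) (f.fiberToSpecResidueField s) f (S.fromSpecResidueField s) :=
    IsPullback.of_hasPullback f (S.fromSpecResidueField s)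
  haveI : Subsingleton (Spec (S.residueField s)) := inferInstanceAs (Subsingleton (PrimeSpectrum (S.residueField s)))
  haveI : Nonempty (Spec (S.residueField s)) := inferInstanceAs (Nonempty (PrimeSpectrum (S.residueField s)))
  have hle : (⊤ : (Spec (S.residueField s)).Opens) ≤ S.fromSpecResidueField s ⁻¹ᵁ V := fun z _ => by
    show S.fromSpecResidueField s z ∈ V
    rw [Scheme.fromSpecResidueField_apply]
    exact hs
  refine exists_epiOn_of_epi_zero f F hfp hfl hsq s (fun z => Scheme.fromSpecResidueField_apply s z)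
    ((epi_iff_surjective_top _).2 ?_)
  letI := ((S.fromSpecResidueField s).appLE V ⊤ hle).hom.toAlgebra
  letI := Module.compHom Γ((Scheme.Modules.pushforward (f.fiberToSpecResidueField s)).obj
      ((Scheme.Modules.pullback (f.fiberι s)).obj F), ⊤)
    ((S.fromSpecResidueField s).appLE V ⊤ hle).hom
  haveI : IsScalarTower Γ(S, V) Γ(Spec (S.residueField s), ⊤)
      Γ((Scheme.Modules.pushforward (f.fiberToSpecResidueField s)).obj
        ((Scheme.Modules.pullback (f.fiberι s)).obj F), ⊤) := .of_algebraMap_smul fun _ _ => rfl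
  obtain ⟨c, -, hc⟩ := exists_transpose_app (S.fromSpecResidueField s)
    (H10Coh.isQuasicoherent_pushforward f F) (GenBC.τ₀ f F hsq) hV (isAffineOpen_top _) hle
  let N' : (f.fiber s).Modules := CohIII.fiberMod f F s
  let b : Γ(F, f ⁻¹ᵁ V) := F.presheaf.map (homOfLE le_top).op σ
  let z : Γ(N', ⊤) := H10Coh.rs N' (preimage_le f hsq hle) (OmegaSh.pullSect (f.fiberι s) F (f ⁻¹ᵁ V) b)
  have hz : z = OmegaSh.pullSect (f.fiberι s) F ⊤ σ := by
    refine (congrArg (H10Coh.rs N' (preimage_le f hsq hle))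
      (H11Tilde.pullSect_res (f.fiberι s) F (le_top : f ⁻¹ᵁ V ≤ ⊤) σ)).trans ?_
    exact (H10Coh.rs_rs N' _ _ _).trans (H10Coh.mres_self N' le_rfl _)
  let E := H10Coh.HH0Equiv N'
  have hz0 : E.symm z ≠ 0 := fun h => hσ (hz ▸ (E.symm.map_eq_zero_iff.1 h))
  intro t
  obtain ⟨a, ha⟩ := exists_smul_eq_of_finrank_eq_one h1 hz0 (E.symm t)
  refine ⟨c (((Scheme.ΓSpecIso (S.residueField s)).inv a) ⊗ₜ[Γ(S, V)]
    (show Γ((Scheme.Modules.pushforward f).obj F, V) from b)), ?_⟩
  refine (congrFun hc _).symm.trans ?_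
  rw [LinearMap.liftBaseChange_tmul]
  refine (congrArg ((Scheme.ΓSpecIso (S.residueField s)).inv a • ·)
    (Seesaw.locLin_τ₀ f F hsq hle (preimage_le f hsq hle) b)).trans ?_
  have h2 := (H10Coh.HH0Equiv_smul N' (algebraMap _ Γ(f.fiber s, ⊤) a) (E.symm z)).symm
  rw [E.apply_symm_apply] at h2
  refine Eq.trans ?_ (h2.trans ((congrArg E ha).trans (E.apply_symm_apply t)))
  rfl

/-- A section generating at some point of a fibre does not vanish there. -/
theorem pullSect_ne_zero_of_zeroGerm {L : X.Modules} (hL : PicF.IsInvertible L)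
    (σ : Coh.structureModule X ⟶ L) {Y : Scheme.{u}} (ι : Y ⟶ X) (y : Y)
    (hy : H28Mero.zeroGerm L σ (ι y) = ⊤) :
    OmegaSh.pullSect ι L ⊤ (SecTwist.val σ ⊤ : Γ(L, ⊤)) ≠ 0 := by
  intro h0
  have h1 := congrArg (((Scheme.Modules.pullback ι).obj L).presheaf.germ (ι ⁻¹ᵁ ⊤) y trivial) h0
  rw [map_zero] at h1
  have h2 : H06Mod.pullStalk ι L y (H28Mero.sGerm L σ (ι y)) = 0 :=
    (H06Mod.pullStalk_germ ι L y ⊤ trivial _).trans h1
  obtain ⟨U, e, hyU, he⟩ := H11Ample.exists_gen hL (ι y)
  have h3 : L.presheaf.germ U (ι y) hyU e ∈ Submodule.span (X.presheaf.stalk (ι y)) {H28Mero.sGerm L σ (ι y)} := by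
    have := Submodule.mem_colon.1 (show (1 : X.presheaf.stalk (ι y)) ∈ H28Mero.zeroGerm L σ (ι y) from hy ▸ trivial)
      (L.presheaf.germ U (ι y) hyU e) trivial
    rwa [one_smul] at this
  obtain ⟨r, hr⟩ := Submodule.mem_span_singleton.1 h3
  have h4 : ((Scheme.Modules.pullback ι).obj L).presheaf.germ (ι ⁻¹ᵁ U) y hyU (OmegaSh.pullSect ι L U e) = 0 := by
    refine (H06Mod.pullStalk_germ ι L y U hyU e).symm.trans ?_
    rw [← hr, H06Mod.pullStalk_smul, h2, smul_zero]
  have h5 := (he.pullSect ι y hyU).1 (show (1 : Y.presheaf.stalk y) • _ = (0 : Y.presheaf.stalk y) • _ by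
    rw [h4, smul_zero, smul_zero])
  exact one_ne_zero h5

/-- On a family of curves a section misses some point of every fibre. -/
theorem exists_not_mem_range_section (x : S ⟶ X) (hx : x ≫ f = 𝟙 S) (s : S)
    (hd : topologicalKrullDim ↥(f.fiber s) = 1) : ∃ y : f.fiber s, f.fiberι s y ∉ Set.range x := by
  by_contra! h
  haveI : Subsingleton (f.fiber s) := ⟨fun a b => by
    obtain ⟨a', ha⟩ := h a
    obtain ⟨b', hb⟩ := h b
    have key : ∀ (t : S) (c : f.fiber s), x t = f.fiberι s c → t = s := fun t c htc => by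
      have h1 : f (x t) = t := by rw [← Scheme.Hom.comp_apply, hx]; rfl
      rw [← h1, htc]
      exact (f.range_fiberι s).le ⟨c, rfl⟩
    refine (f.fiberι s).isEmbedding.injective ?_
    rw [← ha, ← hb, key a' a ha, key b' b hb]⟩
  have h0 : topologicalKrullDim ↥(f.fiber s) ≤ 0 := by
    exact topologicalKrullDim_zero_of_discreteTopology _
  rw [hd] at h0
  exact absurd h0 (by decide)

/-- The direct image of `O(x)` is invertible, on curves of positive genus. -/
theorem isInvertible_push_of_point [IsProper f] [Smooth f] [SmoothOfRelativeDimension 1 f]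
    [GeometricallyConnected f] (hdim : ∀ s : S, topologicalKrullDim ↥(f.fiber s) = 1)
    (hg : ∀ s : S, 1 ≤ CohIII.fiberRank f (Coh.structureModule X) 1 s)
    (x : S ⟶ X) (hx : x ≫ f = 𝟙 S) (L : X.Modules) (hL : PicF.IsInvertible L)
    (eL : CohB1.tensorMod L (ClSub.idealMod x.ker) ≅ Coh.structureModule X) :
    PicF.IsInvertible ((Coh.push f).obj L) := by
  haveI : IsClosedImmersion (x ≫ f) := by rw [hx]; infer_instance
  haveI : IsClosedImmersion x := IsClosedImmersion.of_comp x f
  obtain ⟨σ, hσ, -⟩ := H12Pic.PicCurve.exists_section_of_cartier x.ker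
    (H12Pic.CurveFam.isEffCartierIdeal_section f x hx) L hL (H10Coh.Tw.commIso _ _ ≪≫ eL)
  have hlf := H23Para.isFinLocFree_of_isInvertible hL
  have hfp : CohB1.IsFP L := H8Props.FinLocFree.isFP_of_isFinLocFree L hlf
  have hfl : FlatMod.IsFlatOver f L := H10Coh.SheafHom.isFlatOver_of_isFinLocFree f L hlf
  haveI : L.IsQuasicoherent := H29Fitt.isQCoh_of_isFP L hfp
  haveI := H10Coh.enoughInjMod X
  have h1 : ∀ s, CohIII.fiberRank f L 0 s = 1 :=
    H12Pic.PicCurve.fiberRank_zero_inverse_section f hg x hx hL eL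
  have hE : ∀ s : S, ∃ (W : S.Opens) (hW : IsAffineOpen W), s ∈ W ∧ EpiOn f L hW 0 := fun s => by
    obtain ⟨y, hy⟩ := exists_not_mem_range_section f x hx s (hdim s)
    refine exists_epiOn_zero_of_section f L hfp hfl s (h1 s) _
      (pullSect_ne_zero_of_zeroGerm hL σ (f.fiberι s) y ?_)
    by_contra hne
    refine hy ?_
    have := (H12Pic.PicCurve.zeroIdeal_support L σ hL _).2 hne
    rw [hσ] at this
    have h2 : f.fiberι s y ∈ ((x.ker.support : Set X)) := this
    rwa [Scheme.Hom.support_ker, x.isClosedEmbedding.isClosed_range.closure_eq] at h2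
  refine H22Alg.PB.isInvertible_of_rank_one fun s => ?_
  have hbc : IsIso (CohBC.bc0 f (S.fromSpecResidueField s) (f.fiberToSpecResidueField s) (f.fiberι s)
      (f.fiber_fac s) L) := by
    have := isIso_bc_zero f L (IsPullback.of_hasPullback f (S.fromSpecResidueField s)) hfp hfl fun z => by
      rw [Scheme.fromSpecResidueField_apply]; exact hE s
    rw [GenBC.τ₀_eq] at this
    exact this
  obtain ⟨U, hsU, hU⟩ := push_rank_nhd f (GenBC.isFinLocFree_push f L hfp hfl hE) s hbc
  rw [h1 s] at hU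
  exact ⟨U, hsU, hU⟩

end Groth.Agent.H29CurveFamily
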