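import Groth.Agent.LeadBC.GenBC.Apply

/-!
# The rank of a higher direct image where cohomology commutes with base change
-/

set_option autoImplicit false
set_option linter.style.haveILetI false
set_option linter.unusedSectionVars false
universe u

open CategoryTheory CategoryTheory.Limits AlgebraicGeometry Opposite TopologicalSpace

namespace Groth.Agent.H29CurveFamily

open Groth.Agent.H10Coh Groth.Agent.LeadBC Groth.Agent.LeadBC.GenBC Groth.Agent.H06FlatCx

attribute [local instance 10000] hasSheafifyAb hasWeakSheafifyAb hasExtAb enoughInjAb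

variable {X S : Scheme.{u}} (f : X ⟶ S) [IsProper f] [LocallyOfFinitePresentation f] (F : X.Modules)
  [F.IsQuasicoherent] (hfp : CohB1.IsFP F) (hfl : FlatMod.IsFlatOver f F) [HasInjectiveResolutions X.Modules]

include hfp hfl in
/-- A local trivialisation of `R^p f_* F` near a point of exactness has the rank of the fibre. -/
theorem rank_of_exact {p : ℕ} {W : S.Opens} {hW : IsAffineOpen W} {y : S} (hyW : y ∈ W)
    (he : EpiOn f F hW p) (hm : MonoOn f F hW p) {U : S.Opens} (hyU : y ∈ U) {n : ℕ}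
    (e : ((Coh.Rpush f p).obj F).restrict U.ι ≅ FlatMod.freeMod (↑U) n) :
    n = CohIII.fiberRank f F p y := by
  obtain ⟨V, hV, hyV, hle⟩ := exists_isAffineOpen_mem_and_subset (U := W ⊓ U) (x := y) ⟨hyW, hyU⟩
  have hVW : V ≤ W := fun z hz => (hle hz).1
  have hVU : V ≤ U := fun z hz => (hle hz).2
  obtain ⟨b⟩ := H8Props.FinLocFree.exists_basis_of_chart ((Coh.Rpush f p).obj F) e hVU
  have heV := EpiOn.of_le f F hW hfp hfl he hV hVW
  letI := preOver f hV
  obtain ⟨ι, _, 𝔘, h𝔘, ⟨m⟩⟩ := exists_chart f hV F hfp hfl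
  obtain ⟨ε⟩ := exists_secEquiv f F hV h𝔘 m p
  have hE := (epiOn_iff f F hV h𝔘 m p).1 heV
  haveI := flat_X m.P m.finite_free ((m.N : ℤ) - p - 1)
  haveI := h0_finitePresentation_of_epi m.P m.finite_free _ hE
  haveI : Nonempty (↥V) := ⟨⟨y, hyV⟩⟩
  haveI := Module.Free.of_basis (b.map ε.symm)
  rw [(subsingleton_fiberH_iff f hV h𝔘 m hyV p).2, dRank_eq_fibDim_of_epi m.P (down_prev _) (down_next _)
    ((preservesEpi_iff_epiLift m.P (down_prev _) (down_next _)).1 hE)]
  haveI : Nontrivial Γ(S, V) := PrimeSpectrum.nonempty_iff_nontrivial.1 ⟨hV.primeIdealOf ⟨y, hyV⟩⟩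
  haveI := Module.Finite.of_basis (b.map ε.symm)
  rw [fibDim_eq_rankAtStalk, Module.rankAtStalk_eq_finrank_of_free]
  simp [Module.finrank_eq_card_basis (b.map ε.symm)]

end Groth.Agent.H29CurveFamily
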